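import Cfsg.Agent.Lib.ThOut.Conj
import Cfsg.Agent.Lib.Perm.AutAlternating
import Cfsg.Prelude.Def_KGroupFacts

/-!
Every automorphism of the centraliser of the involution is inner.
-/

set_option autoImplicit false
set_option linter.style.haveILetI false

namespace CfsgLib.ThOut

open Cfsg.Spor CfsgLib.CosetEnum CfsgLib.ThPres CfsgLib.ThRep

attribute [local irreducible] certL certN relsN qKey qMul qWit qElts

theorem toNine_bij : Function.Injective toNine := by
  haveI := card_PN_le.1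
  have hs := toNine.rangeRestrict_surjective
  have hb := hs.bijective_of_nat_card_le (by
    rw [toNine_range, nat_card_alternatingGroup, Nat.card_fin]
    exact card_PN_le.2.trans (by decide +kernel))
  exact fun x y h => hb.1 (Subtype.ext h)

/-- the centraliser on nine points -/
noncomputable def psi : centA →* Equiv.Perm (Fin 9) :=
  toNine.comp ((MulEquiv.ofBijective toQuot toQuot_bijective).symm.toMonoidHom.comp (QuotientGroup.mk' qCent))

theorem psi_eq_one (x : centA) : psi x = 1 ↔ (x : Th) ∈ qTh := by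
  rw [psi, MonoidHom.comp_apply, map_eq_one_iff _ toNine_bij, MonoidHom.comp_apply, MulEquiv.coe_toMonoidHom,
    EmbeddingLike.map_eq_one_iff, QuotientGroup.mk'_apply, QuotientGroup.eq_one_iff, qCent,
    Subgroup.mem_subgroupOf]

theorem psi_range : psi.range = alternatingGroup (Fin 9) := by
  rw [← toNine_range, psi, MonoidHom.range_eq_map, ← Subgroup.map_map, ← MonoidHom.range_eq_map,
    MonoidHom.range_eq_top.2 (((MulEquiv.ofBijective toQuot toQuot_bijective).symm.surjective).comp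
      (QuotientGroup.mk'_surjective qCent)), ← MonoidHom.range_eq_map]

theorem psi_gA {k : ℕ} (hk : k < 10) : psi (gA k) = nineGen k := by
  have e : (MulEquiv.ofBijective toQuot toQuot_bijective).symm (gA k : centA ⧸ qCent) = gN k := by
    rw [MulEquiv.symm_apply_eq, MulEquiv.ofBijective_apply, toQuot_gen hk]
  rw [psi, MonoidHom.comp_apply, MonoidHom.comp_apply, MulEquiv.coe_toMonoidHom, QuotientGroup.mk'_apply, e,
    gN, dif_pos hk, toNine, PresentedGroup.toGroup.of]

theorem psi_word {w : List ℕ} (hw : ∀ g ∈ w, g < 10) (i : Fin 9) :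
    ((psi (prodW gA w) i : Fin 9) : ℕ) = nineRun w i := by
  rw [map_prodW, prodW_congr (gen' := nineGen) fun g hg => psi_gA (hw g hg),
    nineGen_word (fun g hg => (hw g hg).trans (by norm_num))]

/-- the centraliser onto the alternating group -/
noncomputable def psiA : centA →* alternatingGroup (Fin 9) :=
  (MulEquiv.subgroupCongr psi_range).toMonoidHom.comp psi.rangeRestrict

theorem psiA_coe (x : centA) : ((psiA x : alternatingGroup (Fin 9)) : Equiv.Perm (Fin 9)) = psi x := rfl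

theorem psiA_surjective : Function.Surjective psiA :=
  (MulEquiv.subgroupCongr psi_range).surjective.comp psi.rangeRestrict_surjective

theorem psiA_eq_one (x : centA) : psiA x = 1 ↔ (x : Th) ∈ qTh := by
  rw [← psi_eq_one, ← psiA_coe]
  exact ⟨fun h => by rw [h]; rfl, fun h => Subtype.ext h⟩

theorem simple_A9 : IsSimpleGroup (alternatingGroup (Fin 9)) := alternatingGroup.isSimpleGroup (by simp)

/-- an automorphism maps the extraspecial subgroup to itself -/
theorem aut_qTh (β : MulAut centA) {x : centA} (hx : (x : Th) ∈ qTh) : (β x : Th) ∈ qTh := by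
  haveI := simple_A9
  set N : Subgroup (alternatingGroup (Fin 9)) := (qCent.map β.toMonoidHom).map psiA with hN
  have hn : N.Normal :=
    Subgroup.Normal.map (Subgroup.Normal.map qCent_normal β.toMonoidHom β.surjective) psiA psiA_surjective
  have hdvd : Nat.card N ∣ 512 := by
    rw [← card_qCent]
    exact (Subgroup.card_map_dvd _ _).trans (Subgroup.card_map_dvd _ _)
  rcases hn.eq_bot_or_eq_top with h | h
  · rw [← psiA_eq_one, ← Subgroup.mem_bot, ← h]
    exact ⟨β x, ⟨x, hx, rfl⟩, rfl⟩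
  · rw [h, Subgroup.card_top, nat_card_alternatingGroup, Nat.card_fin] at hdvd
    exfalso
    revert hdvd
    decide +kernel

theorem aut_qTh_iff (β : MulAut centA) (x : centA) : (β x : Th) ∈ qTh ↔ (x : Th) ∈ qTh :=
  ⟨fun h => by simpa using aut_qTh β⁻¹ h, aut_qTh β⟩

theorem tg0_mem_qTh : tg 0 ∈ qTh := by
  rw [← tg0_eq, ← qe_zero.2]
  exact qe_mem_qTh (by norm_num)

/-- commutation in the extraspecial subgroup up to the centre -/
theorem comm_or {x y : Th} (hx : x ∈ qTh) (hy : y ∈ qTh) : x * y = y * x ∨ x * y = y * x * tg 0 := by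
  have h : vec (y * x) = vec (x * y) := by rw [vec_mul hx hy, vec_mul hy hx, Nat.xor_comm]
  rcases (vec_eq_iff (mul_mem hy hx) (mul_mem hx hy)).1 h with h | h
  · exact Or.inl (inv_mul_eq_one.1 h).symm
  · exact Or.inr (inv_mul_eq_iff_eq_mul.1 h)

/-- only the centre of the subgroup commutes with all of it -/
theorem central_qTh {x : Th} (hx : x ∈ qTh) (h : ∀ y ∈ qTh, x * y = y * x) : x = 1 ∨ x = tg 0 := by
  obtain ⟨p, hp, rfl⟩ := hx
  rcases (center_qGrp ⟨p, hp⟩).1 (Subgroup.mem_center_iff.2 fun q => Subtype.ext (toP_injective (by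
    simp only [Subgroup.coe_mul, map_mul]
    exact (h _ ⟨q, q.2, rfl⟩).symm))) with e | e
  · exact Or.inl (by rw [show p = 1 from e, map_one])
  · exact Or.inr (by rw [show p = pGen 0 from e, tg0_eq])

theorem tg0_comm {x : Th} (hx : x ∈ centA) : x * tg 0 = tg 0 * x := by
  have h := (mem_centA x).1 hx
  rwa [tg0_eq] at h

/-- an automorphism fixes the involution -/
theorem aut_fix (β : MulAut centA) : (β ⟨tg 0, qTh_le tg0_mem_qTh⟩ : Th) = tg 0 := by
  set z : centA := ⟨tg 0, qTh_le tg0_mem_qTh⟩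
  refine (central_qTh (aut_qTh β (x := z) tg0_mem_qTh) fun y hy => ?_).resolve_left fun h => ?_
  · have hc : z * β.symm ⟨y, qTh_le hy⟩ = β.symm ⟨y, qTh_le hy⟩ * z :=
      Subtype.ext (tg0_comm (β.symm ⟨y, qTh_le hy⟩).2).symm
    have h1 := congrArg β hc
    rw [map_mul, map_mul, MulEquiv.apply_symm_apply] at h1
    exact congrArg Subtype.val h1
  · have h1 : β z = 1 := Subtype.ext h
    rw [EmbeddingLike.map_eq_one_iff] at h1
    have h2 : tg 0 = 1 := congrArg Subtype.val h1
    have h3 := (vec_eq_zero (x := toP (qe 1)) (qe_mem_qTh (by norm_num))).2 (Or.inr (by rw [qe_zero.2, tg0_eq]))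
    have h4 : toP (qe 1) = toP (qe 0) := by rw [qe_zero.1, qe_zero.2, map_one, tg0_eq, h2]
    exact absurd (qe_inj 1 (by norm_num) 0 (by norm_num) (toP_injective h4)) one_ne_zero

theorem aut_central_iff (β : MulAut centA) {x : centA} :
    ((β x : Th) = 1 ∨ (β x : Th) = tg 0) ↔ ((x : Th) = 1 ∨ (x : Th) = tg 0) := by
  have key : ∀ (γ : MulAut centA) (y : centA), (y : Th) = 1 ∨ (y : Th) = tg 0 → (γ y : Th) = 1 ∨ (γ y : Th) = tg 0 := by
    intro γ y hy
    rcases hy with hy | hy
    · exact Or.inl (by rw [show y = 1 from Subtype.ext hy, map_one]; rfl)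
    · exact Or.inr (by rw [show y = ⟨tg 0, qTh_le tg0_mem_qTh⟩ from Subtype.ext hy]; exact aut_fix γ)
  exact ⟨fun h => by simpa using key β⁻¹ _ h, key β x⟩

/-- an automorphism respects congruence modulo the centre -/
theorem aut_vec (β : MulAut centA) {x y : centA} (hx : (x : Th) ∈ qTh) (hy : (y : Th) ∈ qTh)
    (h : vec x = vec y) : vec (β x) = vec (β y) := by
  rw [vec_eq_iff (aut_qTh β hx) (aut_qTh β hy)]
  rw [vec_eq_iff hx hy] at h
  have h' := (aut_central_iff β (x := x⁻¹ * y)).2 h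
  rwa [map_mul, map_inv] at h'

theorem centA_normal_conj {g : centA} {x : Th} (hx : x ∈ qTh) : (g : Th)⁻¹ * x * g ∈ qTh := conj_mem g.2 hx

/-- conjugation by the subgroup is trivial on vectors -/
theorem vec_conj_qTh {q x : Th} (hq : q ∈ qTh) (hx : x ∈ qTh) : vec (q⁻¹ * x * q) = vec x := by
  rw [vec_mul (mul_mem (inv_mem hq) hx) hq, vec_mul (inv_mem hq) hx, vec_inv hq, Nat.xor_comm, ← Nat.xor_assoc,
    Nat.xor_self, Nat.zero_xor]

theorem gA_coe {k : ℕ} (hk : k < 10) : (gA k : Th) = tg (nLet k) := by rw [gA, dif_pos hk]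

theorem nLet_cLet {k : ℕ} (hk : k < 10) : nLet k ∈ cLet := by interval_cases k <;> decide

theorem vec_conj_gA {w : List ℕ} (hw : ∀ g ∈ w, g < 10) {x : Th} (hx : x ∈ qTh) :
    vec (((prodW gA w : centA) : Th)⁻¹ * x * (prodW gA w : centA)) = actW (w.map nLet) (vec x) := by
  rw [gA_word hw, vec_conj_word (fun c hc => ?_) hx]
  obtain ⟨g, hg, rfl⟩ := List.mem_map.1 hc
  exact nLet_cLet (hw g hg)

/-- the two words of the nine-cycles -/
def wFix : List ℕ := [2, 3, 8, 5]

/-- the second word -/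
def wFree : List ℕ := [3, 8, 2, 5]

/-- the checks for the twist -/
def twistOK : Bool :=
  ((List.range 9).all fun i =>
    Nat.beq (nineRun wFree i) (let j := nineRun wFix (if i = 0 then 1 else if i = 1 then 0 else i);
      if j = 0 then 1 else if j = 1 then 0 else j)) &&
  Nat.beq (actW (wFix.map nLet) 35) 35 &&
  ((List.range 256).all fun v => Nat.beq v 0 || !(Nat.beq (actW (wFree.map nLet) v) v)) &&
  ((List.range 256).all fun v => Nat.beq v 0 || Nat.beq v 1 ||
    [0, 2, 4, 5, 6, 7, 8, 9, 10].any fun g => !(Nat.beq (actV g v) v))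

theorem twist_ok : twistOK = true := by decide +kernel

theorem no_twist (β : MulAut centA)
    (h : ∀ x, psi (β x) = Equiv.swap 0 1 * psi x * Equiv.swap 0 1) : False := by
  have hok := twist_ok
  simp only [twistOK, Bool.and_eq_true, List.all_eq_true, List.mem_range, Bool.or_eq_true,
    Bool.not_eq_true'] at hok
  obtain ⟨⟨⟨h1, h2⟩, h3⟩, -⟩ := hok
  have hw1 : ∀ g ∈ wFix, g < 10 := by decide
  have hw2 : ∀ g ∈ wFree, g < 10 := by decide
  set x := prodW gA wFix with hx
  set y := prodW gA wFree with hy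
  have hswap : ∀ i : Fin 9, ((Equiv.swap (0 : Fin 9) 1 i : Fin 9) : ℕ) =
      if (i : ℕ) = 0 then 1 else if (i : ℕ) = 1 then 0 else (i : ℕ) := by decide
  have hxy : psi (β x) = psi y := by
    rw [h]
    refine Equiv.ext fun i => Fin.ext ?_
    rw [Equiv.Perm.mul_apply, Equiv.Perm.mul_apply, hswap, psi_word hw1, hswap, psi_word hw2,
      Nat.eq_of_beq_eq_true (h1 i i.2)]
  obtain ⟨q1, hq1, hβ⟩ : ∃ q1, q1 ∈ qTh ∧ (β x : Th) = y * q1 := by
    refine ⟨(y : Th)⁻¹ * β x, ?_, (mul_inv_cancel_left _ _).symm⟩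
    have := (psi_eq_one (y⁻¹ * β x)).1 (by rw [map_mul, map_inv, hxy, inv_mul_cancel])
    simpa using this
  set q0 : centA := ⟨toP (qe 70), qTh_le (qe_mem_qTh (by norm_num))⟩ with hq0
  have hq0m : (q0 : Th) ∈ qTh := qe_mem_qTh (by norm_num)
  have hv0 : vec (q0 : Th) = 35 := by rw [hq0]; exact vec_qe (by norm_num)
  have hr := aut_qTh β hq0m
  have e1 : vec ((x⁻¹ * q0 * x : centA) : Th) = vec (q0 : Th) := by
    rw [Subgroup.coe_mul, Subgroup.coe_mul, Subgroup.coe_inv, vec_conj_gA hw1 hq0m, hv0,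
      Nat.eq_of_beq_eq_true h2]
  have e2 := aut_vec β (conj_mem x.2 hq0m) hq0m e1
  rw [map_mul, map_mul, map_inv, Subgroup.coe_mul, Subgroup.coe_mul, Subgroup.coe_inv, hβ,
    show ((y : Th) * q1)⁻¹ * (β q0 : Th) * (y * q1) = q1⁻¹ * ((y : Th)⁻¹ * β q0 * y) * q1 by group,
    vec_conj_qTh hq1 (conj_mem y.2 hr), hy, vec_conj_gA hw2 hr] at e2
  rcases h3 _ (vec_lt hr) with h0 | h0
  · have hz := (aut_central_iff β).1 ((vec_eq_zero hr).1 (Nat.eq_of_beq_eq_true h0))
    have := (vec_eq_zero hq0m).2 hz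
    omega
  · rw [e2] at h0
    simp at h0

/-- an automorphism that is trivial on the nine points is trivial on vectors -/
theorem vec_fix (β : MulAut centA) (h : ∀ x, psi (β x) = psi x) {x : centA} (hx : (x : Th) ∈ qTh) :
    vec (β x) = vec x := by
  have hconj : ∀ (g : centA) (q : centA), (q : Th) ∈ qTh →
      vec (β (g⁻¹ * q * g)) = vec ((g : Th)⁻¹ * β q * g) := fun g q hq => by
    have hm : (g : Th)⁻¹ * β g ∈ qTh := by
      have := (psi_eq_one (g⁻¹ * β g)).1 (by rw [map_mul, map_inv, h, inv_mul_cancel])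
      simpa using this
    rw [map_mul, map_mul, map_inv, Subgroup.coe_mul, Subgroup.coe_mul, Subgroup.coe_inv,
      show (β g : Th)⁻¹ * β q * β g = ((g : Th)⁻¹ * β g)⁻¹ * ((g : Th)⁻¹ * β q * g) * ((g : Th)⁻¹ * β g) by group,
      vec_conj_qTh hm (conj_mem g.2 (aut_qTh β hq))]
  have hok := twist_ok
  simp only [twistOK, Bool.and_eq_true, List.all_eq_true, List.mem_range, Bool.or_eq_true,
    Bool.not_eq_true', List.any_eq_true] at hok
  obtain ⟨-, h4⟩ := hok
  set c : centA := ⟨toP (qe 2), qTh_le (qe_mem_qTh (by norm_num))⟩ with hc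
  have hcm : (c : Th) ∈ qTh := qe_mem_qTh (by norm_num)
  have hcv : vec (c : Th) = 1 := by rw [hc]; exact vec_qe (by norm_num)
  have hβc : vec (β c) = 1 := by
    rcases h4 _ (vec_lt (aut_qTh β hcm)) with (h0 | h0) | ⟨g, hg, h0⟩
    · have hz := (aut_central_iff β).1 ((vec_eq_zero (aut_qTh β hcm)).1 (Nat.eq_of_beq_eq_true h0))
      have := (vec_eq_zero hcm).2 hz
      omega
    · exact Nat.eq_of_beq_eq_true h0
    · exfalso
      have hcl : g ∈ cLet := by simp only [List.mem_cons, List.not_mem_nil, or_false] at hg; simp [cLet]; omega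
      have hfix : actV g 1 = 1 := by
        have : ∀ g ∈ [0, 2, 4, 5, 6, 7, 8, 9, 10], actV g 1 = 1 := by decide
        exact this g hg
      set G : centA := ⟨tg g, tg_mem_centA hcl⟩ with hG
      have e1 : vec ((G⁻¹ * c * G : centA) : Th) = vec (c : Th) := by
        rw [Subgroup.coe_mul, Subgroup.coe_mul, Subgroup.coe_inv, hG, vec_conj_letter hcl hcm, hcv, hfix]
      have e2 := aut_vec β (conj_mem G.2 hcm) hcm e1
      rw [hconj G c hcm, hG, vec_conj_letter hcl (aut_qTh β hcm)] at e2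
      rw [e2] at h0
      simp at h0
  let S : Subgroup centA :=
    { carrier := {q | (q : Th) ∈ qTh ∧ vec (β q) = vec (q : Th)}
      one_mem' := ⟨one_mem _, by rw [map_one]⟩
      mul_mem' := fun {p q} hp hq => ⟨mul_mem hp.1 hq.1, by
        rw [map_mul, Subgroup.coe_mul, Subgroup.coe_mul, vec_mul (aut_qTh β hp.1) (aut_qTh β hq.1),
          vec_mul hp.1 hq.1, hp.2, hq.2]⟩
      inv_mem' := fun {p} hp => ⟨inv_mem hp.1, by
        rw [map_inv, Subgroup.coe_inv, Subgroup.coe_inv, vec_inv (aut_qTh β hp.1), vec_inv hp.1, hp.2]⟩ }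
  have hcS : ∀ g : centA, g⁻¹ * c * g ∈ S := fun g => ⟨conj_mem g.2 hcm, by
    rw [hconj g c hcm]
    have hm := aut_qTh β hcm
    obtain ⟨z, hz, hzv⟩ : ∃ z, z ∈ qTh ∧ ((β c : Th) = c * z ∧ (z = 1 ∨ z = tg 0)) :=
      ⟨(c : Th)⁻¹ * β c, mul_mem (inv_mem hcm) hm, (mul_inv_cancel_left _ _).symm,
        (vec_eq_iff hcm hm).1 (hcv.trans hβc.symm)⟩
    rw [hzv.1, show (g : Th)⁻¹ * ((c : Th) * z) * g = ((g : Th)⁻¹ * c * g) * ((g : Th)⁻¹ * z * g) by group,
      vec_mul (conj_mem g.2 hcm) (conj_mem g.2 hz)]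
    have : vec ((g : Th)⁻¹ * z * g) = 0 := by
      refine (vec_eq_zero (conj_mem g.2 hz)).2 ?_
      rcases hzv.2 with rfl | rfl
      · exact Or.inl (by group)
      · exact Or.inr (by rw [mul_assoc, ← tg0_comm g.2, inv_mul_cancel_left])
    rw [this, Nat.xor_zero]
    simp⟩
  have hgen : ∀ q ∈ qGens, ∀ hq : toP (prodW pGen q) ∈ centA, (⟨_, hq⟩ : centA) ∈ S := by
    intro q hq hqm
    have hform : qGens = [[0]] ++ ([[], [3], [3, 4], [3, 4, 5], [3, 4, 6], [3, 4, 5, 4], [3, 4, 5, 5],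
        [3, 4, 5, 8]].map fun w => (w.map inv11).reverse ++ [2] ++ w) := by decide
    rw [hform, List.mem_append, List.mem_singleton] at hq
    rcases hq with rfl | hq
    · have e : (⟨_, hqm⟩ : centA) = ⟨tg 0, qTh_le tg0_mem_qTh⟩ :=
        Subtype.ext (show toP (prodW pGen [0]) = tg 0 by rw [prodW_single, tg0_eq])
      rw [e]
      exact ⟨tg0_mem_qTh, by rw [aut_fix]⟩
    · obtain ⟨w, hw, rfl⟩ := List.mem_map.1 hq
      have hlt : ∀ v ∈ [[], [3], [3, 4], [3, 4, 5], [3, 4, 6], [3, 4, 5, 4], [3, 4, 5, 5], [3, 4, 5, 8]],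
          (∀ g ∈ v, g ∈ cLet) ∧ ∀ g ∈ (v.map inv11).reverse ++ [2] ++ v, g < 9 := by decide
      obtain ⟨hw1, hw2⟩ := hlt w hw
      have e : (⟨_, hqm⟩ : centA) = ⟨prodW tg w, word_mem_centA hw1⟩⁻¹ * c * ⟨prodW tg w, word_mem_centA hw1⟩ := by
        refine Subtype.ext ?_
        simp only [Subgroup.coe_mul, Subgroup.coe_inv, hc]
        rw [toP_word hw2, prodW_append, prodW_append, ← show iw11 w = (w.map inv11).reverse from rfl,
          prodW_iw11, prodW_single]
        congr 2
        have h2 : qe 2 = prodW pGen [2] := by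
          rw [qe, show qElts.getD 2 [] = [2] by decide +kernel]
        rw [h2, prodW_single, toP_gen (by norm_num)]
      rw [e]
      exact hcS _
  have hall : qTh ≤ S.map centA.subtype := by
    rw [qTh, qGrp, MonoidHom.map_closure, Subgroup.closure_le]
    rintro _ ⟨_, ⟨q, hq, rfl⟩, rfl⟩
    have hm : toP (prodW pGen q) ∈ centA := qTh_le ⟨_, Subgroup.subset_closure ⟨q, hq, rfl⟩, rfl⟩
    exact ⟨_, hgen q hq hm, rfl⟩
  obtain ⟨x', hx', e⟩ := hall hx
  rw [← Subtype.ext e (a2 := x)]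
  exact hx'.2

end CfsgLib.ThOut
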