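import Cfsg.Agent.Lib.ThOut.AutCent

/-!
Automorphisms of the centraliser are inner: the last step.
-/

set_option autoImplicit false
set_option linter.style.haveILetI false

namespace CfsgLib.ThOut

open Cfsg.Spor CfsgLib.CosetEnum CfsgLib.ThPres CfsgLib.ThRep

attribute [local irreducible] certL certN relsN qKey qMul qWit qElts

/-- indices of elements commuting with all generators but one -/
def dualIdx : List ℕ := [508, 506, 502, 494, 478, 446, 382, 254]

/-- the checks for the dual elements and for the witnesses on nine points -/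
noncomputable def dualOK : Bool :=
  ((List.range 8).all fun j => (List.range 8).all fun i =>
    let l := qElts.getD (dualIdx.getD j 0) [] ++ qGens.getD (i + 1) []
    let m := qGens.getD (i + 1) [] ++ qElts.getD (dualIdx.getD j 0) []
    (l.all fun g => Nat.blt g 9) && (m.all fun g => Nat.blt g 9) && Nat.blt (dualIdx.getD j 0) 512 &&
      (Nat.beq (keyRun l) (keyRun m) == !(Nat.beq i j))) &&
  !(Nat.beq (actV 3 1) 1) && !((List.range 9).all fun i => Nat.beq (nineRun (wFix ++ wFix) i) i)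

theorem dual_ok : dualOK = true := by decide +kernel

theorem dual_spec {i j : ℕ} (hi : i < 8) (hj : j < 8) :
    dualIdx.getD j 0 < 512 ∧
      (toP (qe (dualIdx.getD j 0)) * toP (prodW pGen (qGens.getD (i + 1) [])) =
        toP (prodW pGen (qGens.getD (i + 1) [])) * toP (qe (dualIdx.getD j 0)) ↔ i ≠ j) := by
  have h := dual_ok
  simp only [dualOK, Bool.and_eq_true, List.all_eq_true, List.mem_range, Nat.blt_eq, beq_iff_eq] at h
  obtain ⟨⟨⟨hl, hm⟩, hd⟩, hk⟩ := h.1.1 j hj i hi
  refine ⟨hd, ?_⟩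
  rw [← map_mul, ← map_mul, toP_injective.eq_iff, qe, ← prodW_append, ← prodW_append]
  constructor
  · intro e he
    rw [key_of_eq hl hm e, Nat.beq_refl, show Nat.beq i j = true by rw [he, Nat.beq_refl]] at hk
    simp at hk
  · intro he
    have hb : Nat.beq i j = false := Bool.eq_false_iff.2 fun hb => he (Nat.eq_of_beq_eq_true hb)
    rw [hb] at hk
    exact eq_of_key hl hm (Nat.eq_of_beq_eq_true (by simpa using hk))

/-- the subgroup is its own centraliser up to the centre -/
theorem cent_qTh {x : Th} (hx : x ∈ centA) (h : ∀ y ∈ qTh, x * y = y * x) : x = 1 ∨ x = tg 0 := by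
  haveI := simple_A9
  let N : Subgroup centA := Subgroup.centralizer {z : centA | (z : Th) ∈ qTh}
  have hNm : ∀ z : centA, z ∈ N ↔ ∀ y ∈ qTh, (z : Th) * y = y * z := fun z => by
    rw [Subgroup.mem_centralizer_iff]
    exact ⟨fun hz y hy => (congrArg Subtype.val (hz ⟨y, qTh_le hy⟩ hy)).symm,
      fun hz y hy => Subtype.ext (hz y hy).symm⟩
  have hN : N.Normal := ⟨fun n hn g => (hNm _).2 fun y hy => by
    have h1 := (hNm n).1 hn _ (conj_mem g.2 hy)
    simp only [Subgroup.coe_mul, Subgroup.coe_inv]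
    calc (g : Th) * n * (g : Th)⁻¹ * y = g * ((n : Th) * ((g : Th)⁻¹ * y * g)) * (g : Th)⁻¹ := by group
      _ = g * (((g : Th)⁻¹ * y * g) * n) * (g : Th)⁻¹ := by rw [h1]
      _ = _ := by group⟩
  rcases (hN.map psiA psiA_surjective).eq_bot_or_eq_top with hb | ht
  · refine central_qTh ?_ h
    have : psiA ⟨x, hx⟩ = 1 := by
      rw [← Subgroup.mem_bot, ← hb]
      exact ⟨_, (hNm _).2 h, rfl⟩
    exact (psiA_eq_one _).1 this
  · exfalso
    set G : centA := ⟨tg 3, tg_mem_centA (by simp [cLet])⟩ with hG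
    obtain ⟨n, hn, e⟩ := (ht.symm ▸ Subgroup.mem_top (psiA G) : psiA G ∈ N.map psiA)
    obtain ⟨q, hq, hnq⟩ : ∃ q, q ∈ qTh ∧ (n : Th) = tg 3 * q := by
      refine ⟨(tg 3)⁻¹ * n, ?_, (mul_inv_cancel_left _ _).symm⟩
      have := (psiA_eq_one (G⁻¹ * n)).1 (by rw [map_mul, map_inv, e, inv_mul_cancel])
      simpa [hG] using this
    set c := toP (qe 2)
    have hc : c ∈ qTh := qe_mem_qTh (by norm_num)
    have h1 := (hNm n).1 hn c hc
    rw [hnq] at h1
    have h2 : vec (q⁻¹ * ((tg 3)⁻¹ * c * tg 3) * q) = vec c := by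
      rw [show q⁻¹ * ((tg 3)⁻¹ * c * tg 3) * q = (tg 3 * q)⁻¹ * (c * (tg 3 * q)) by group, ← h1,
        inv_mul_cancel_left]
    rw [vec_conj_qTh hq (conj_mem (tg_mem_centA (by simp [cLet])) hc), vec_conj_letter (by simp [cLet]) hc,
      vec_qe (by norm_num)] at h2
    have h3 := dual_ok
    simp only [dualOK, Bool.and_eq_true, Bool.not_eq_true'] at h3
    have h4 := h3.1.2
    rw [show actV 3 1 = 1 from h2] at h4
    simp at h4

/-- correcting one generator after another -/
theorem fix_gens (β : MulAut centA) (hv : ∀ x : centA, (x : Th) ∈ qTh → vec (β x) = vec (x : Th)) :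
    ∀ n ≤ 8, ∃ q : centA, (q : Th) ∈ qTh ∧ ∀ j < n, ∀ hm : toP (prodW pGen (qGens.getD (j + 1) [])) ∈ centA,
      (q : Th) * β ⟨_, hm⟩ * (q : Th)⁻¹ = toP (prodW pGen (qGens.getD (j + 1) [])) := by
  intro n
  induction n with
  | zero => exact fun _ => ⟨1, one_mem _, fun j hj => absurd hj (Nat.not_lt_zero j)⟩
  | succ n ih =>
    intro hn
    obtain ⟨q, hqm, hq⟩ := ih (by omega)
    have hd8 : n < 8 := by omega
    set gn : Th := toP (prodW pGen (qGens.getD (n + 1) [])) with hgn
    have hgm : gn ∈ qTh := qGen_mem (by omega)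
    have hm2 := aut_qTh β (x := ⟨gn, qTh_le hgm⟩) hgm
    have hmem : (q : Th) * β ⟨gn, qTh_le hgm⟩ * (q : Th)⁻¹ ∈ qTh := mul_mem (mul_mem hqm hm2) (inv_mem hqm)
    have hvq : vec gn = vec ((q : Th) * β ⟨gn, qTh_le hgm⟩ * (q : Th)⁻¹) := by
      have h := vec_conj_qTh (inv_mem hqm) hm2
      rw [inv_inv] at h
      rw [h, hv ⟨gn, qTh_le hgm⟩ hgm]
    rcases (vec_eq_iff hgm hmem).1 hvq with h1 | h1
    · refine ⟨q, hqm, fun j hj hm => ?_⟩
      rcases Nat.lt_succ_iff_lt_or_eq.1 hj with h | rfl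
      · exact hq j h hm
      · exact (inv_mul_eq_one.1 h1).symm
    · rw [inv_mul_eq_iff_eq_mul] at h1
      obtain ⟨hd, hdiff⟩ := dual_spec (i := n) (j := n) hd8 hd8
      set d := toP (qe (dualIdx.getD n 0)) with hdd
      have hdq : d ∈ qTh := qe_mem_qTh hd
      refine ⟨⟨d, qTh_le hdq⟩ * q, mul_mem hdq hqm, fun j hj hm => ?_⟩
      rw [Subgroup.coe_mul, mul_inv_rev, show (d : Th) * q * β ⟨_, hm⟩ * ((q : Th)⁻¹ * d⁻¹) =
        d * (q * β ⟨_, hm⟩ * (q : Th)⁻¹) * d⁻¹ by group]
      rcases Nat.lt_succ_iff_lt_or_eq.1 hj with h | rfl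
      · rw [hq j h hm, (dual_spec (i := j) (j := n) (by omega) hd8).2.2 (by omega), mul_inv_cancel_right]
      · rw [h1]
        rcases comm_or hdq hgm with h2 | h2
        · exact absurd rfl (hdiff.1 h2)
        · rw [← mul_assoc, h2, show gn * d * tg 0 * tg 0 * d⁻¹ = gn * d * (tg 0 * tg 0) * d⁻¹ by group,
            tg_sq (by norm_num), mul_one, mul_inv_cancel_right]

/-- every automorphism of the centraliser is inner -/
theorem aut_centA_inner (β : MulAut centA) : ∃ k : centA, MulAut.conj k = β := by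
  haveI := simple_A9
  have hsub : ∀ γ : MulAut centA, ∃ σ : Equiv.Perm (Fin 9), ∀ x, psi (γ x) = σ * psi x * σ⁻¹ := by
    intro γ
    have hker : psiA.ker ≤ (psiA.comp γ.toMonoidHom).ker := fun x hx => by
      rw [MonoidHom.mem_ker] at hx ⊢
      exact (psiA_eq_one _).2 (aut_qTh γ ((psiA_eq_one x).1 hx))
    let f := psiA.liftOfSurjective psiA_surjective ⟨psiA.comp γ.toMonoidHom, hker⟩
    have hf : ∀ x, f (psiA x) = psiA (γ x) := fun x =>
      MonoidHom.liftOfRightInverse_comp_apply psiA _ _ ⟨psiA.comp γ.toMonoidHom, hker⟩ x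
    have hs : Function.Surjective f := fun y => by
      obtain ⟨x, rfl⟩ := psiA_surjective y
      exact ⟨psiA (γ.symm x), by rw [hf, γ.apply_symm_apply]⟩
    obtain ⟨σ, hσ⟩ := CfsgLib.AutAlternating.eq_conj (n := 9) (by norm_num) (by norm_num)
      (MulEquiv.ofBijective f ⟨Finite.injective_iff_surjective.2 hs, hs⟩)
    refine ⟨σ, fun x => ?_⟩
    rw [← psiA_coe, ← psiA_coe, ← hf,
      show f (psiA x) = MulEquiv.ofBijective f ⟨Finite.injective_iff_surjective.2 hs, hs⟩ (psiA x) from rfl]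
    have := congrArg (fun g => ((g (psiA x) : alternatingGroup (Fin 9)) : Equiv.Perm (Fin 9))) hσ
    simpa using this.symm
  -- reduce to the automorphisms that are trivial on the nine points
  obtain ⟨σ, hσ⟩ := hsub β
  obtain ⟨c0, hc0⟩ : ∃ c0, psi c0 = σ := by
    rcases Int.units_eq_one_or (Equiv.Perm.sign σ) with h | h
    · exact MonoidHom.mem_range.1 (psi_range ▸ Equiv.Perm.mem_alternatingGroup.2 h)
    · exfalso
      have he : Equiv.Perm.sign (σ * Equiv.swap 0 1) = 1 := by
        rw [map_mul, h, Equiv.Perm.sign_swap (by decide)]; rfl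
      obtain ⟨c, hc⟩ := MonoidHom.mem_range.1 (psi_range ▸ Equiv.Perm.mem_alternatingGroup.2 he)
      refine no_twist (MulAut.conj c⁻¹ * β) fun x => ?_
      rw [MulAut.mul_apply, MulAut.conj_apply, inv_inv, map_mul, map_mul, map_inv, hσ, hc, mul_inv_rev,
        Equiv.swap_inv]
      group
  set β1 := MulAut.conj c0⁻¹ * β with hβ1
  have h1 : ∀ x, psi (β1 x) = psi x := fun x => by
    rw [hβ1, MulAut.mul_apply, MulAut.conj_apply, inv_inv, map_mul, map_mul, map_inv, hσ, hc0]
    group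
  obtain ⟨q, hqm, hq⟩ := fix_gens β1 (fun x hx => vec_fix β1 h1 hx) 8 le_rfl
  set β2 := MulAut.conj q * β1 with hβ2
  have hQ : ∀ x : centA, (x : Th) ∈ qTh → β2 x = x := by
    let S : Subgroup centA := β2.toMonoidHom.eqLocus (MonoidHom.id _)
    have hall : qTh ≤ S.map centA.subtype := by
      rw [qTh, qGrp, MonoidHom.map_closure, Subgroup.closure_le]
      rintro _ ⟨_, ⟨w, hw, rfl⟩, rfl⟩
      obtain ⟨j, hj, rfl⟩ := List.getElem_of_mem hw
      have hj9 : j < 9 := q_facts.1 ▸ hj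
      rw [← List.getD_eq_getElem _ [] hj]
      refine ⟨⟨_, qTh_le (qGen_mem hj9)⟩, ?_, rfl⟩
      show β2 _ = _
      refine Subtype.ext ?_
      rcases j with _ | j
      · have e0 : toP (prodW pGen (qGens.getD 0 [])) = tg 0 := by
          rw [q_facts.2.1, prodW_single, tg0_eq]
        have e1 : (⟨_, qTh_le (qGen_mem hj9)⟩ : centA) = ⟨tg 0, qTh_le tg0_mem_qTh⟩ := Subtype.ext e0
        show ((β2 _ : centA) : Th) = toP (prodW pGen (qGens.getD 0 []))
        rw [e1, aut_fix β2, e0]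
      · rw [hβ2, MulAut.mul_apply, MulAut.conj_apply]
        exact hq j (by omega) _
    intro x hx
    obtain ⟨y, hy, e⟩ := hall hx
    rw [← Subtype.ext e (a2 := x)]
    exact hy
  -- the difference is a homomorphism to the centre
  have hdiff : ∀ x : centA, ((x⁻¹ * β2 x : centA) : Th) = 1 ∨ ((x⁻¹ * β2 x : centA) : Th) = tg 0 := fun x => by
    refine cent_qTh (x⁻¹ * β2 x).2 fun y hy => ?_
    have hy' : (x : Th) * y * (x : Th)⁻¹ ∈ qTh := by simpa using conj_mem (inv_mem x.2) hy
    have h2 := congrArg Subtype.val (hQ (x * ⟨y, qTh_le hy⟩ * x⁻¹) hy')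
    rw [map_mul, map_mul, map_inv, hQ ⟨y, qTh_le hy⟩ hy] at h2
    simp only [Subgroup.coe_mul, Subgroup.coe_inv] at h2 ⊢
    calc (x : Th)⁻¹ * β2 x * y = (x : Th)⁻¹ * ((β2 x : Th) * y * (β2 x : Th)⁻¹) * β2 x := by group
      _ = _ := by rw [h2]; group
  have hcz : ∀ x z : centA, (z : Th) = 1 ∨ (z : Th) = tg 0 → z * x = x * z := fun x z hz => Subtype.ext (by
    rcases hz with e | e <;> simp only [Subgroup.coe_mul, e, one_mul, mul_one]
    exact (tg0_comm x.2).symm)
  have hzz : ∀ z : centA, (z : Th) = 1 ∨ (z : Th) = tg 0 → z * z = 1 := fun z hz => Subtype.ext (by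
    rcases hz with e | e <;> simp [e, tg_sq])
  let S : Subgroup centA := β2.toMonoidHom.eqLocus (MonoidHom.id _)
  have hS : ∀ x, x ∈ S ↔ β2 x = x := fun x => Iff.rfl
  have hsq : ∀ x, x * x ∈ S := fun x => by
    rw [hS, map_mul, show β2 x = x * (x⁻¹ * β2 x) by group, mul_assoc x, ← mul_assoc (x⁻¹ * β2 x) x,
      hcz x _ (hdiff x), mul_assoc x, hzz _ (hdiff x), mul_one]
  have hSn : S.Normal := ⟨fun s hs g => by
    rw [hS] at hs ⊢
    rw [map_mul, map_mul, map_inv, hs, show β2 g = g * (g⁻¹ * β2 g) by group, mul_assoc g,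
      hcz s _ (hdiff g)]
    group⟩
  have hST : S = ⊤ := by
    rcases (hSn.map psiA psiA_surjective).eq_bot_or_eq_top with hb | ht
    · exfalso
      have hm := Subgroup.mem_map_of_mem psiA (hsq (prodW gA wFix))
      rw [hb, Subgroup.mem_bot, psiA_eq_one, ← psi_eq_one, ← prodW_append] at hm
      have hok := dual_ok
      simp only [dualOK, Bool.and_eq_true, Bool.not_eq_true'] at hok
      have h3 := hok.2
      have h4 : (List.range 9).all (fun i => Nat.beq (nineRun (wFix ++ wFix) i) i) = true := by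
        simp only [List.all_eq_true, List.mem_range]
        intro i hi
        have := psi_word (w := wFix ++ wFix) (by decide) ⟨i, hi⟩
        rw [hm] at this
        rw [← this]
        exact Nat.beq_refl i
      rw [h4] at h3
      exact Bool.noConfusion h3
    · rw [eq_top_iff]
      intro x _
      obtain ⟨s, hs, e⟩ := (ht.symm ▸ Subgroup.mem_top (psiA x) : psiA x ∈ S.map psiA)
      have h2 : ((s⁻¹ * x : centA) : Th) ∈ qTh :=
        (psiA_eq_one _).1 (by rw [map_mul, map_inv, e, inv_mul_cancel])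
      simpa using mul_mem hs (show s⁻¹ * x ∈ S from hQ _ h2)
  refine ⟨c0 * q⁻¹, MulEquiv.ext fun x => ?_⟩
  have h2 : β2 x = x := (hS x).1 (hST ▸ Subgroup.mem_top x)
  rw [hβ2, hβ1, MulAut.mul_apply, MulAut.mul_apply, MulAut.conj_apply, MulAut.conj_apply, inv_inv] at h2
  rw [MulAut.conj_apply]
  conv_lhs => rw [← h2]
  group

end CfsgLib.ThOut
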