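import Cfsg.Agent.Lib.ThOut.Vec

/-!
Conjugation on the vectors.
-/

set_option autoImplicit false
set_option linter.style.haveILetI false

namespace CfsgLib.ThOut

open Cfsg.Spor CfsgLib.CosetEnum CfsgLib.ThPres CfsgLib.ThRep

attribute [local irreducible] certL qKey qMul qWit qElts

/-- the image of a generator of the subgroup under a letter -/
def imgTab (g j : ℕ) : ℕ :=
  if 9 ≤ g then qConjU.getD j 0 else ((qConj.find? fun e => Nat.beq e.1 g).getD (0, [])).2.getD j 0

/-- a letter on vectors -/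
def actV (g v : ℕ) : ℕ :=
  (List.range 8).foldl (fun a b => bif v.testBit b then a ^^^ (imgTab g (b + 1) / 2) else a) 0

/-- a word on vectors, the first letter first -/
def actW (w : List ℕ) (v : ℕ) : ℕ := w.foldl (fun x g => actV g x) v

/-- the action on vectors is linear on the ordered products -/
def actOK : Bool :=
  cLet.all fun g => Nat.beq (actV g 0) 0 && ((List.range 512).drop 1).all fun n =>
    Nat.blt (imgTab g (topBit n)) 512 &&
      Nat.beq (actV g (n / 2)) (actV g ((n - 2 ^ topBit n) / 2) ^^^ (imgTab g (topBit n) / 2))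

theorem act_ok : actOK = true := by decide +kernel

theorem conj_mem {g x : Th} (hg : g ∈ centA) (hx : x ∈ qTh) : g⁻¹ * x * g ∈ qTh := by
  have h := ((Subgroup.mem_normalizer_iff.1 (mem_normalizer_qTh (inv_mem hg))) x).1 hx
  simpa using h

theorem tg_mem_centA {g : ℕ} (hg : g ∈ cLet) : tg g ∈ centA := centC_le (tg_mem_centC hg)

theorem word_mem_centA {w : List ℕ} (hw : ∀ g ∈ w, g ∈ cLet) : prodW tg w ∈ centA :=
  centC_le (word_mem_centC hw)

/-- the generators of the subgroup under the letters of the small subgroup -/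
theorem conj_gen_lt {g : ℕ} (hg : g ∈ [0, 2, 3, 4, 5, 6, 7, 8]) {j : ℕ} (hj : j < 9) :
    imgTab g j < 512 ∧
      (tg g)⁻¹ * toP (prodW pGen (qGens.getD j [])) * tg g = toP (qe (imgTab g j)) := by
  obtain ⟨h9, -, hlen, -, hgl, h⟩ := q_facts
  have hg9 : g < 9 := by simp at hg; omega
  have hall : qConj.all (fun e => (qConj.find? fun e' => Nat.beq e'.1 e.1) == some e) = true := by decide
  simp only [List.all_eq_true, beq_iff_eq] at hall
  have hgm : g ∈ qConj.map Prod.fst := by rw [conj_letters]; exact hg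
  obtain ⟨⟨g', ks⟩, hm, rfl⟩ := List.mem_map.1 hgm
  have himg : imgTab g' j = ks.getD j 0 := by
    rw [imgTab, if_neg (by omega), hall _ hm]; rfl
  rw [himg]
  have hc := List.all_eq_true.1 q_conj _ hm
  simp only [qConjOK, Bool.and_eq_true, List.all_eq_true, Nat.blt_eq] at hc
  obtain ⟨⟨-, hkl⟩, hz⟩ := hc
  have hkl' := Nat.eq_of_beq_eq_true hkl
  have hj1 : j < qGens.length := h9.symm ▸ hj
  have hj2 : j < ks.length := hkl'.symm ▸ hj1
  have hq9 : ∀ c ∈ qGens[j], c < 9 := hgl _ (List.getElem_mem _)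
  rw [List.getD_eq_getElem _ _ hj2, List.getD_eq_getElem _ _ hj1]
  obtain ⟨hk, hval⟩ := hz (qGens[j], ks[j])
    (List.mem_iff_getElem.2 ⟨j, by rw [List.length_zip, hkl']; simpa using hj1, List.getElem_zip⟩)
  have hval' := Nat.eq_of_beq_eq_true hval
  rw [← (h _ hk).2.1] at hval'
  have hgi : certL.inv g' < 9 := hK9 ▸ pAct.inv_lt g' (hK9.symm ▸ hg9)
  have e := eq_of_key (l := certL.inv g' :: qGens[j] ++ [g']) (fun c hc => by
    simp only [List.mem_cons, List.mem_append, List.mem_singleton, List.cons_append] at hc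
    rcases hc with rfl | hc | rfl | hc
    exacts [hgi, hq9 c hc, hg9, absurd hc List.not_mem_nil]) (h _ hk).1 hval'
  refine ⟨hk, ?_⟩
  rw [qe, ← e, List.cons_append, prodW_cons, prodW_append, prodW_single,
    eq_inv_of_mul_eq_one_right (pAct.inv_mul g'), map_mul, map_mul, map_inv, toP_gen hg9, mul_assoc]

theorem conj_gen_u {j : ℕ} (hj : j < 9) :
    qConjU.getD j 0 < 512 ∧
      (tg 9)⁻¹ * toP (prodW pGen (qGens.getD j [])) * tg 9 = toP (qe (qConjU.getD j 0)) := by
  obtain ⟨h9, -, hlen, -, hgl, h⟩ := q_facts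
  have hj1 : j < qGens.length := h9.symm ▸ hj
  have hq9 : ∀ c ∈ qGens[j], c < 9 := hgl _ (List.getElem_mem _)
  have hu : qConjUOK j = true := by
    interval_cases j
    exacts [q_conjU0, q_conjU1, q_conjU2, q_conjU3, q_conjU4, q_conjU5, q_conjU6, q_conjU7, q_conjU8]
  simp only [qConjUOK, Bool.and_eq_true, Nat.blt_eq] at hu
  refine ⟨hu.1, rho_injective0 (Units.ext ?_)⟩
  have hlw : ∀ c ∈ [10] ++ qGens.getD j [] ++ [9], c < 11 := by
    rw [List.getD_eq_getElem _ _ hj1]
    intro c hc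
    simp only [List.mem_append, List.mem_singleton] at hc
    rcases hc with (rfl | hc) | rfl
    · norm_num
    · exact (hq9 c hc).trans (by norm_num)
    · norm_num
  have e1 := (rho_word hlw).2
  have e2 := (rho_word (w := qElts.getD (qConjU.getD j 0) []) fun c hc =>
    ((h _ hu.1).1 c hc).trans (by norm_num)).2
  rw [Nat.eq_of_beq_eq_true hu.2, ← e2, List.getD_eq_getElem qGens _ hj1, prodW_append, prodW_append,
    prodW_single, prodW_single] at e1
  rw [qe, toP_word (h _ hu.1).1, List.getD_eq_getElem qGens _ hj1, toP_word hq9, ← e1,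
    show tg 10 = (tg 9)⁻¹ from eq_inv_of_mul_eq_one_right (tg_inv 9)]

theorem qGen_mem {j : ℕ} (hj : j < 9) : toP (prodW pGen (qGens.getD j [])) ∈ qTh := by
  obtain ⟨h9, -⟩ := q_facts
  refine ⟨_, Subgroup.subset_closure ⟨_, ?_, rfl⟩, rfl⟩
  rw [List.getD_eq_getElem _ _ (h9.symm ▸ hj)]
  exact List.getElem_mem _

theorem u_sq_mem : tg 9 * tg 9 ∈ qTh := by
  rw [u_sq, ← toP_word (w := [0, 2]) (by simp)]
  have h1 : prodW pGen [0, 2] = prodW pGen (qGens.getD 0 []) * prodW pGen (qGens.getD 1 []) := by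
    rw [← prodW_append]; rfl
  rw [h1, map_mul]
  exact mul_mem (qGen_mem (by norm_num)) (qGen_mem (by norm_num))

theorem vec_conj_gen {g : ℕ} (hg : g ∈ cLet) {j : ℕ} (hj : j < 9) :
    vec ((tg g)⁻¹ * toP (prodW pGen (qGens.getD j [])) * tg g) = imgTab g j / 2 := by
  by_cases h8 : g ∈ [0, 2, 3, 4, 5, 6, 7, 8]
  · obtain ⟨h1, h2⟩ := conj_gen_lt h8 hj
    rw [h2, vec_qe h1]
  obtain ⟨h1, h2⟩ := conj_gen_u hj
  obtain rfl | rfl : g = 9 ∨ g = 10 := by
    simp only [cLet, List.mem_cons, List.not_mem_nil, or_false] at hg h8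
    omega
  · rw [h2, vec_qe h1, imgTab, if_pos le_rfl]
  · have i10 : tg 10 = (tg 9)⁻¹ := eq_inv_of_mul_eq_one_right (tg_inv 9)
    have hs := u_sq_mem
    rw [i10, show (tg 9)⁻¹⁻¹ * toP (prodW pGen (qGens.getD j [])) * (tg 9)⁻¹ = (tg 9 * tg 9) *
      ((tg 9)⁻¹ * toP (prodW pGen (qGens.getD j [])) * tg 9) * (tg 9 * tg 9)⁻¹ by group, h2,
      vec_mul (mul_mem hs (qe_mem_qTh h1)) (inv_mem hs), vec_mul hs (qe_mem_qTh h1), vec_inv hs,
      vec_qe h1, Nat.xor_comm, ← Nat.xor_assoc, Nat.xor_self, Nat.zero_xor, imgTab, if_pos (by norm_num)]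

theorem vec_conj_letter {g : ℕ} (hg : g ∈ cLet) {x : Th} (hx : x ∈ qTh) :
    vec ((tg g)⁻¹ * x * tg g) = actV g (vec x) := by
  obtain ⟨k, hk, rfl⟩ := exists_idx hx
  rw [vec_qe hk]
  have h := act_ok
  simp only [actOK, List.all_eq_true, Bool.and_eq_true, Nat.blt_eq] at h
  obtain ⟨h0, hs⟩ := h g hg
  induction k using Nat.strong_induction_on with
  | _ k ih =>
    by_cases hk0 : k = 0
    · subst hk0
      rw [qe_zero.1, map_one, mul_one, inv_mul_cancel, vec_one, Nat.eq_of_beq_eq_true h0]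
    obtain ⟨hj, hle, e⟩ := split_bit hk hk0
    obtain ⟨-, hv⟩ := hs k (List.mem_iff_getElem.2 ⟨k - 1, by simp; omega, by
      simp only [List.getElem_drop, List.getElem_range]; omega⟩)
    have hlt : k - 2 ^ topBit k < k := Nat.sub_lt (Nat.pos_of_ne_zero hk0) (Nat.two_pow_pos _)
    rw [e, map_mul, show (tg g)⁻¹ * (toP (qe (k - 2 ^ topBit k)) * toP (prodW pGen (qGens.getD (topBit k) []))) *
        tg g = ((tg g)⁻¹ * toP (qe (k - 2 ^ topBit k)) * tg g) *
          ((tg g)⁻¹ * toP (prodW pGen (qGens.getD (topBit k) [])) * tg g) by group,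
      vec_mul (conj_mem (tg_mem_centA hg) (qe_mem_qTh (by omega))) (conj_mem (tg_mem_centA hg) (qGen_mem hj)),
      ih _ hlt (by omega) (qe_mem_qTh (by omega)), vec_conj_gen hg hj, Nat.eq_of_beq_eq_true hv]

theorem vec_conj_word : ∀ {w : List ℕ}, (∀ g ∈ w, g ∈ cLet) → ∀ {x : Th}, x ∈ qTh →
    vec ((prodW tg w)⁻¹ * x * prodW tg w) = actW w (vec x)
  | [], _, x, _ => by simp [actW]
  | g :: w, hw, x, hx => by
    rw [prodW_cons, show (tg g * prodW tg w)⁻¹ * x * (tg g * prodW tg w) =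
      (prodW tg w)⁻¹ * ((tg g)⁻¹ * x * tg g) * prodW tg w by group,
      vec_conj_word (fun c hc => hw c (List.mem_cons_of_mem _ hc))
        (conj_mem (tg_mem_centA (hw g List.mem_cons_self)) hx),
      vec_conj_letter (hw g List.mem_cons_self) hx]
    rfl

end CfsgLib.ThOut
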