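import Cfsg.Agent.Lib.ThOut.AutInner

/-!
The outer automorphism group of the Thompson group is trivial.
-/

set_option autoImplicit false
set_option linter.style.haveILetI false

namespace CfsgLib.ThOut

open Cfsg.Spor CfsgLib.CosetEnum CfsgLib.ThPres CfsgLib.ThRep
open scoped Pointwise

attribute [local irreducible] certL certN relsN qKey qMul qWit qElts

theorem tg0_ne_one : tg 0 ≠ 1 := fun h => by
  have h4 : toP (qe 1) = toP (qe 0) := by rw [qe_zero.1, qe_zero.2, map_one, tg0_eq, h]
  exact absurd (qe_inj 1 (by norm_num) 0 (by norm_num) (toP_injective h4)) one_ne_zero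

/-- the image of the involution is one of its conjugates -/
theorem exists_fix_involution (α : MulAut Th) : ∃ g : Th, g * α (tg 0) * g⁻¹ = tg 0 := by
  classical
  haveI := finite_Th
  haveI : Fact (Nat.Prime 2) := ⟨Nat.prime_two⟩
  have fac : ∀ m : ℕ, ¬ 2 ∣ m → (2 ^ 15 * m).factorization 2 = 15 := by
    intro m hm
    rw [Nat.factorization_mul (pow_ne_zero 15 two_ne_zero) (by rintro rfl; exact hm (dvd_zero 2)),
      Nat.Prime.factorization_pow Nat.prime_two]
    simp [Nat.factorization_eq_zero_of_not_dvd hm]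
  let P : Sylow 2 centA := default
  have hcP : Nat.card (P : Subgroup centA) = 2 ^ 15 := by
    rw [P.card_eq_multiplicity, card_centA, show 92897280 = 2 ^ 15 * 2835 by norm_num, fac 2835 (by norm_num)]
  set U := (P : Subgroup centA).map centA.subtype with hU
  have hcU : Nat.card U = 2 ^ 15 := by
    rw [hU, Subgroup.card_map_of_injective centA.subtype_injective, hcP]
  have hfacTh : 2 ^ (Nat.card Th).factorization 2 = 2 ^ 15 := by
    rw [card_Th, show 90745943887872000 = 2 ^ 15 * 2769346432125 by norm_num, fac 2769346432125 (by norm_num)]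
  let S0 : Sylow 2 Th := Sylow.ofCard U (by rw [hfacTh, hcU])
  let S1 : Sylow 2 Th := Sylow.ofCard (U.map α.toMonoidHom) (by
    rw [hfacTh, Subgroup.card_map_of_injective α.injective, hcU])
  obtain ⟨g, hg⟩ := MulAction.exists_smul_eq Th S1 S0
  refine ⟨g, ?_⟩
  have hQP : qCent ≤ (P : Subgroup centA) := by
    have hp : IsPGroup 2 qCent := IsPGroup.of_card (n := 9) (by rw [card_qCent]; norm_num)
    have h1 : IsPGroup 2 ((P : Subgroup centA) ⊔ qCent : Subgroup centA) := IsPGroup.to_sup_of_normal_right P.isPGroup' hp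
    have h2 := P.is_maximal' h1 le_sup_left
    exact h2 ▸ le_sup_right
  have hQU : ∀ y ∈ qTh, y ∈ U := fun y hy => ⟨⟨y, qTh_le hy⟩, hQP hy, rfl⟩
  have hmap : ∀ y ∈ U, g * α y * g⁻¹ ∈ U := fun y hy => by
    have h : g * α y * g⁻¹ ∈ ((g • S1 : Sylow 2 Th) : Subgroup Th) := by
      rw [Sylow.coe_subgroup_smul]
      exact Subgroup.mem_map.2 ⟨α y, ⟨y, hy, rfl⟩, rfl⟩
    rw [hg] at h
    exact h
  have hsurj : ∀ y ∈ U, ∃ w ∈ U, g * α w * g⁻¹ = y := fun y hy => by
    have h : y ∈ ((g • S1 : Sylow 2 Th) : Subgroup Th) := by rw [hg]; exact hy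
    rw [Sylow.coe_subgroup_smul] at h
    obtain ⟨_, ⟨w, hw, rfl⟩, e⟩ := Subgroup.mem_map.1 h
    exact ⟨w, hw, e⟩
  have hUC : ∀ y ∈ U, y ∈ centA := fun y hy => by
    obtain ⟨z, -, rfl⟩ := hy
    exact z.2
  refine (cent_qTh (hUC _ (hmap _ (hQU _ tg0_mem_qTh))) fun y hy => ?_).resolve_left fun h => tg0_ne_one ?_
  · obtain ⟨w, hw, rfl⟩ := hsurj y (hQU y hy)
    have h := congrArg α (tg0_comm (hUC w hw))
    rw [map_mul, map_mul] at h
    calc g * α (tg 0) * g⁻¹ * (g * α w * g⁻¹) = g * (α (tg 0) * α w) * g⁻¹ := by group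
      _ = g * (α w * α (tg 0)) * g⁻¹ := by rw [h]
      _ = _ := by group
  · rw [mul_inv_eq_one, mul_eq_left] at h
    exact (map_eq_one_iff α α.injective).1 h

/-- an automorphism fixing the involution is inner on its centraliser -/
theorem inner_on_centA (α : MulAut Th) (h : α (tg 0) = tg 0) :
    ∃ k ∈ centA, ∀ x ∈ centA, α x = k * x * k⁻¹ := by
  have hiff : ∀ {γ : MulAut Th}, γ (tg 0) = tg 0 → ∀ {x : Th}, x ∈ centA → γ x ∈ centA := fun {γ} hγ {x} hx => by
    rw [mem_centA, tg0_eq]
    have := congrArg γ (tg0_comm hx)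
    rwa [map_mul, map_mul, hγ] at this
  have hsymm : α.symm (tg 0) = tg 0 := by rw [MulEquiv.symm_apply_eq, h]
  let β : MulAut centA :=
    { toFun := fun x => ⟨α x, hiff h x.2⟩
      invFun := fun x => ⟨α.symm x, hiff (γ := α.symm) hsymm x.2⟩
      left_inv := fun x => Subtype.ext (α.symm_apply_apply x)
      right_inv := fun x => Subtype.ext (α.apply_symm_apply x)
      map_mul' := fun x y => Subtype.ext (map_mul α _ _) }
  obtain ⟨k, hk⟩ := aut_centA_inner β
  refine ⟨k, k.2, fun x hx => ?_⟩
  have := congrArg (fun f : MulAut centA => ((f ⟨x, hx⟩ : centA) : Th)) hk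
  exact this.symm

/-- the word conjugating the involution to its neighbour -/
def wG : List ℕ := [1, 2, 0, 1]

/-- the element conjugating the involution to the second one -/
def gC : Th := prodW tg wG

/-- the letters of a word for the second generator, conjugated or not -/
def bParts : List (Bool × ℕ) :=
  [(false, 2), (true, 3), (false, 3), (true, 0), (false, 3), (true, 3), (true, 0), (false, 3), (true, 0),
    (false, 3), (true, 3), (true, 0), (false, 3)]

/-- the word of one part -/
def partWord (e : Bool × ℕ) : List ℕ := if e.1 then wG ++ [e.2] ++ (wG.map inv11).reverse else [e.2]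

/-- the checks for the second centraliser -/
noncomputable def secondOK : Bool :=
  tw.eq (wG ++ [0] ++ (wG.map inv11).reverse) [2] &&
  tw.eq [1] (bParts.flatMap partWord) &&
  !(Nat.beq (keyRun [2, 3, 2, 3]) (keyRun [3, 2, 3, 2])) &&
  tw.eq [2, 0] [0, 2]

theorem second_ok : secondOK = true := by decide +kernel

theorem toP_eq {l m : List ℕ} (h : tw.eq l m = true) (hl : ∀ g ∈ l, g < 9) (hm : ∀ g ∈ m, g < 9) :
    prodW tg l = prodW tg m := by
  rw [← toP_word hl, eq_sound0 h, toP_word hm]

theorem gC_conj : gC * tg 0 * gC⁻¹ = tg 2 := by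
  have h := second_ok
  simp only [secondOK, Bool.and_eq_true] at h
  have e := toP_eq h.1.1.1 (by decide) (by decide)
  rw [prodW_append, prodW_append, ← show iw11 wG = (wG.map inv11).reverse from rfl, prodW_iw11, prodW_single,
    prodW_single] at e
  exact e

theorem b_mem {S : Subgroup Th} (hC : centA ≤ S) (hD : ∀ x ∈ centA, gC * x * gC⁻¹ ∈ S) : tg 1 ∈ S := by
  have h := second_ok
  simp only [secondOK, Bool.and_eq_true] at h
  have e := toP_eq h.1.1.2 (by decide) (by decide)
  rw [prodW_single] at e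
  rw [e]
  have key : ∀ l : List (Bool × ℕ), (∀ e ∈ l, e.2 ∈ cLet) → prodW tg (l.flatMap partWord) ∈ S := by
    intro l
    induction l with
    | nil => intro _; simp
    | cons p l ih =>
      intro hl
      rw [List.flatMap_cons, prodW_append]
      refine mul_mem ?_ (ih fun c hc => hl c (List.mem_cons_of_mem _ hc))
      have hp := tg_mem_centA (hl p List.mem_cons_self)
      rcases hb : p.1 with _ | _
      · rw [partWord, hb, if_neg (by simp), prodW_single]; exact hC hp
      · rw [partWord, hb, if_pos rfl, prodW_append, prodW_append,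
          ← show iw11 wG = (wG.map inv11).reverse from rfl, prodW_iw11, prodW_single]
        exact hD _ hp
  exact key bParts (by decide)

theorem c_mem_qTh : tg 2 ∈ qTh := by
  have h : toP (prodW pGen (qGens.getD 1 [])) = tg 2 := by
    rw [show qGens.getD 1 [] = [2] from rfl, prodW_single, toP_gen (by norm_num)]
  exact h ▸ qGen_mem (by norm_num)

theorem x_mem_qTh : prodW tg [3, 2, 3] ∈ qTh := by
  have h : toP (prodW pGen (qGens.getD 2 [])) = prodW tg [3, 2, 3] := toP_word (by decide)
  exact h ▸ qGen_mem (by norm_num)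

/-- what centralises the two-point centraliser -/
theorem cent_pair {K : Th} (hK : K ∈ centA) (hKy : ∀ y ∈ qTh, y * tg 2 = tg 2 * y → K * y = y * K) :
    K = 1 ∨ K = tg 0 ∨ tg 2 * K = 1 ∨ tg 2 * K = tg 0 := by
  set c := tg 2 with hc
  set a := tg 0 with ha
  set x := prodW tg [3, 2, 3] with hx
  have hcQ := c_mem_qTh
  have hxQ := x_mem_qTh
  have hc2 : c * c = 1 := tg_sq (by norm_num)
  have ha2 : a * a = 1 := tg_sq (by norm_num)
  have hac : ∀ {y : Th}, y ∈ centA → y * a = a * y := tg0_comm
  have hxc : x * c ≠ c * x := fun e => by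
    have h := second_ok
    simp only [secondOK, Bool.and_eq_true, Bool.not_eq_true'] at h
    have h3 := h.1.2
    have hh : prodW tg [3, 2, 3, 2] = prodW tg [2, 3, 2, 3] := by
      rw [show [3, 2, 3, 2] = [3, 2, 3] ++ [2] from rfl, show [2, 3, 2, 3] = [2] ++ [3, 2, 3] from rfl,
        prodW_append, prodW_append, prodW_single, ← hx]
      exact e
    rw [← toP_word (by decide), ← toP_word (w := [2, 3, 2, 3]) (by decide), toP_injective.eq_iff] at hh
    rw [key_of_eq (by decide) (by decide) hh.symm, Nat.beq_refl] at h3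
    exact Bool.noConfusion h3
  have hxc' : x * c = c * x * a := (comm_or hxQ hcQ).resolve_left hxc
  -- every element of the subgroup commutes with c or differs by x from one that does
  have hsplit : ∀ y ∈ qTh, y * c = c * y ∨ (x * y) * c = c * (x * y) := fun y hy => by
    rcases comm_or hy hcQ with h | h
    · exact Or.inl h
    · refine Or.inr ?_
      calc x * y * c = x * (y * c) := by group
        _ = x * (c * y * a) := by rw [h]
        _ = (x * c) * (y * a) := by group
        _ = c * x * a * (y * a) := by rw [hxc']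
        _ = c * x * (a * y) * a := by group
        _ = c * x * (y * a) * a := by rw [hac (qTh_le hy)]
        _ = c * (x * y) * (a * a) := by group
        _ = _ := by rw [ha2, mul_one]
  have hall : ∀ {T : Th}, T ∈ centA → T * x = x * T → (∀ y ∈ qTh, y * c = c * y → T * y = y * T) →
      ∀ y ∈ qTh, T * y = y * T := fun {T} _ hTx hTy y hy => by
    rcases hsplit y hy with h | h
    · exact hTy y hy h
    · have h1 := hTy _ (mul_mem hxQ hy) h
      calc T * y = x⁻¹ * (T * x) * y := by rw [hTx]; group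
        _ = x⁻¹ * (T * (x * y)) := by group
        _ = x⁻¹ * (x * y * T) := by rw [h1]
        _ = _ := by group
  have hKc : K * c = c * K := hKy c hcQ rfl
  set h := x⁻¹ * (K * x * K⁻¹) with hh
  have hhQ : h ∈ qTh := mul_mem (inv_mem hxQ) (by
    have h0 := conj_mem (inv_mem hK) hxQ
    rwa [inv_inv] at h0)
  have hKxK : K * x * K⁻¹ = x * h := by rw [hh]; group
  have hhy : ∀ y ∈ qTh, y * c = c * y → h * y = y * h := fun y hy hyc => by
    have e := hKy y hy hyc
    obtain ⟨z, hz, hzc⟩ : ∃ z, x * y = y * x * z ∧ ∀ w ∈ centA, w * z = z * w := by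
      rcases comm_or hxQ hy with e' | e'
      · exact ⟨1, by rw [e', mul_one], fun w _ => by group⟩
      · exact ⟨a, e', fun w hw => hac hw⟩
    have e1 : (x * h) * y = y * (x * h) * z := by
      rw [← hKxK]
      calc K * x * K⁻¹ * y = K * x * (K⁻¹ * y * K) * K⁻¹ := by group
        _ = K * x * y * K⁻¹ := by rw [show K⁻¹ * y * K = y by rw [mul_assoc, ← e, inv_mul_cancel_left]]
        _ = K * (y * x * z) * K⁻¹ := by rw [← hz]; group
        _ = (K * y) * x * (z * K⁻¹) := by group
        _ = (y * K) * x * (K⁻¹ * z) := by rw [e, hzc _ (inv_mem hK)]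
        _ = _ := by group
    have e2 : x * (h * y) = x * (y * h) := by
      rw [← mul_assoc, e1, show y * (x * h) * z = y * x * (h * z) by group, hzc h (qTh_le hhQ),
        ← mul_assoc x y, hz]
      group
    exact mul_left_cancel e2
  have hhx : h * x = x * h := by
    rcases comm_or hxQ hhQ with e | e
    · exact e.symm
    exfalso
    have hch : c * h * x = x * (c * h) := by
      calc c * h * x = c * (h * x) := by group
        _ = c * (x * h * a) := by
          congr 1
          calc h * x = h * x * (a * a) := by rw [ha2, mul_one]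
            _ = (h * x * a) * a := by group
            _ = _ := by rw [← e]
        _ = c * x * (h * a) := by group
        _ = c * x * (a * h) := by rw [hac (qTh_le hhQ)]
        _ = (c * x * a) * h := by group
        _ = _ := by rw [← hxc']; group
    have hcen := central_qTh (mul_mem hcQ hhQ) (hall (qTh_le (mul_mem hcQ hhQ)) hch fun y hy hyc => by
      rw [mul_assoc, hhy y hy hyc, ← mul_assoc, ← hyc, mul_assoc])
    have hh2 : h * h = 1 := by
      rcases hcen with e' | e'
      · rw [eq_inv_of_mul_eq_one_right e', ← mul_inv_rev, hc2, inv_one]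
      · have : h = c * a := by rw [← show c * h = a from e', ← mul_assoc, hc2, one_mul]
        rw [this, show c * a * (c * a) = c * (a * c) * a by group, ← hac (qTh_le hcQ),
          show c * (c * a) * a = (c * c) * (a * a) by group, hc2, ha2, mul_one]
    have hxx : x * x = 1 := by
      rw [hx]; simp only [prodW_cons, prodW_nil, mul_one]
      rw [show tg 3 * (tg 2 * tg 3) * (tg 3 * (tg 2 * tg 3)) = tg 3 * tg 2 * (tg 3 * tg 3) * tg 2 * tg 3 by group,
        tg_sq (by norm_num), mul_one, mul_assoc (tg 3), tg_sq (by norm_num), mul_one, tg_sq (by norm_num)]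
    have e3 : (x * h) * (x * h) = 1 := by
      rw [← hKxK, show K * x * K⁻¹ * (K * x * K⁻¹) = K * (x * x) * K⁻¹ by group, hxx]
      group
    rw [show x * h * (x * h) = x * (h * x) * h by group,
      show h * x = x * h * a from by
        calc h * x = h * x * (a * a) := by rw [ha2, mul_one]
          _ = (h * x * a) * a := by group
          _ = _ := by rw [← e],
      show x * (x * h * a) * h = x * x * h * (a * h) by group, ← hac (qTh_le hhQ),
      show x * x * h * (h * a) = x * x * (h * h) * a by group, hxx, hh2, one_mul, one_mul] at e3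
    exact tg0_ne_one e3
  rcases central_qTh hhQ (hall (qTh_le hhQ) hhx hhy) with e | e
  · rw [e, mul_one] at hKxK
    refine (cent_qTh hK (hall hK (mul_inv_eq_iff_eq_mul.1 hKxK) hKy)).elim Or.inl fun h' => Or.inr (Or.inl h')
  · rw [e] at hKxK
    have hcx : c * x = x * c * a := by
      rw [hxc', mul_assoc, ha2, mul_one]
    have hT : c * K * x = x * (c * K) := by
      calc c * K * x = c * (K * x * K⁻¹) * K := by group
        _ = c * x * a * K := by rw [hKxK, ← mul_assoc c x]
        _ = x * c * (a * a) * K := by rw [hcx]; group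
        _ = _ := by rw [ha2, mul_one]; group
    have hcK := cent_qTh (mul_mem (qTh_le hcQ) hK) (hall (mul_mem (qTh_le hcQ) hK) hT fun y hy hyc => by
      rw [mul_assoc, hKy y hy hyc, ← mul_assoc, ← hyc, mul_assoc])
    exact Or.inr (Or.inr hcK)

/-- every automorphism is inner -/
theorem aut_inner (α : MulAut Th) : ∃ g : Th, MulAut.conj g = α := by
  obtain ⟨g1, hg1⟩ := exists_fix_involution α
  obtain ⟨k1, hk1, hk1'⟩ := inner_on_centA (MulAut.conj g1 * α) (by
    rw [MulAut.mul_apply, MulAut.conj_apply]; exact hg1)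
  set α1 := MulAut.conj k1⁻¹ * (MulAut.conj g1 * α) with hα1
  have hA : ∀ x ∈ centA, α1 x = x := fun x hx => by
    rw [hα1, MulAut.mul_apply, hk1' x hx, MulAut.conj_apply]
    group
  have hc : α1 (tg 2) = tg 2 := hA _ (qTh_le c_mem_qTh)
  obtain ⟨k2, hk2, hk2'⟩ := inner_on_centA (MulAut.conj gC⁻¹ * α1 * MulAut.conj gC) (by
    rw [MulAut.mul_apply, MulAut.mul_apply, MulAut.conj_apply, MulAut.conj_apply, gC_conj, hc, ← gC_conj]
    group)
  set K := gC * k2 * gC⁻¹ with hKdef
  have hC : ∀ x ∈ centA, α1 (gC * x * gC⁻¹) = K * (gC * x * gC⁻¹) * K⁻¹ := fun x hx => by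
    have h := hk2' x hx
    rw [MulAut.mul_apply, MulAut.mul_apply, MulAut.conj_apply, MulAut.conj_apply, inv_inv] at h
    calc α1 (gC * x * gC⁻¹) = gC * (gC⁻¹ * α1 (gC * x * gC⁻¹) * gC) * gC⁻¹ := by group
      _ = _ := by rw [h, hKdef]; group
  have hK2 : ∀ y, y * tg 2 = tg 2 * y → gC⁻¹ * y * gC ∈ centA := fun y hy => by
    rw [mem_centA, tg0_eq]
    calc gC⁻¹ * y * gC * tg 0 = gC⁻¹ * (y * (gC * tg 0 * gC⁻¹)) * gC := by group
      _ = gC⁻¹ * ((gC * tg 0 * gC⁻¹) * y) * gC := by rw [gC_conj, hy]
      _ = _ := by group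
  have hKy : ∀ y ∈ centA, y * tg 2 = tg 2 * y → K * y = y * K := fun y hy hyc => by
    have h := hC _ (hK2 y hyc)
    rw [show gC * (gC⁻¹ * y * gC) * gC⁻¹ = y by group, hA y hy] at h
    exact (eq_mul_inv_iff_mul_eq.1 h).symm
  have hKa : K ∈ centA := by
    rw [mem_centA, tg0_eq]
    exact hKy _ (qTh_le tg0_mem_qTh) (tg0_comm (qTh_le c_mem_qTh)).symm
  obtain ⟨e1, hKe, he1⟩ : ∃ e1, (∀ x ∈ centA, e1 * x * e1⁻¹ = x) ∧
      ∀ x ∈ centA, e1⁻¹ * (K * (gC * x * gC⁻¹) * K⁻¹) * e1 = gC * x * gC⁻¹ := by
    have ha : ∀ x ∈ centA, tg 0 * x * (tg 0)⁻¹ = x := fun x hx => by rw [← tg0_comm hx, mul_inv_cancel_right]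
    have hcc : ∀ x ∈ centA, tg 2 * (gC * x * gC⁻¹) = gC * x * gC⁻¹ * tg 2 := fun x hx => by
      rw [← gC_conj]
      calc gC * tg 0 * gC⁻¹ * (gC * x * gC⁻¹) = gC * (tg 0 * x) * gC⁻¹ := by group
        _ = gC * (x * tg 0) * gC⁻¹ := by rw [tg0_comm hx]
        _ = _ := by group
    have hc2 : tg 2 * tg 2 = 1 := tg_sq (by norm_num)
    rcases cent_pair hKa (fun y hy => hKy y (qTh_le hy)) with h | h | h | h
    · exact ⟨1, fun x _ => by group, fun x _ => by rw [h]; group⟩
    · exact ⟨tg 0, ha, fun x _ => by rw [h]; group⟩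
    · refine ⟨1, fun x _ => by group, fun x hx => ?_⟩
      rw [show K = tg 2 by rw [eq_inv_of_mul_eq_one_right h, inv_eq_of_mul_eq_one_right hc2], hcc x hx]
      group
    · refine ⟨tg 0, ha, fun x hx => ?_⟩
      rw [show K = tg 0 * tg 2 by rw [← tg0_comm (qTh_le c_mem_qTh), ← h, ← mul_assoc, hc2, one_mul],
        show tg 0 * tg 2 * (gC * x * gC⁻¹) * (tg 0 * tg 2)⁻¹ =
          tg 0 * (tg 2 * (gC * x * gC⁻¹) * (tg 2)⁻¹) * (tg 0)⁻¹ by group, hcc x hx]
      group
  set α2 := MulAut.conj e1⁻¹ * α1 with hα2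
  have h2A : ∀ x ∈ centA, α2 x = x := fun x hx => by
    rw [hα2, MulAut.mul_apply, hA x hx, MulAut.conj_apply, inv_inv]
    have := hKe x hx
    calc e1⁻¹ * x * e1 = e1⁻¹ * (e1 * x * e1⁻¹) * e1 := by rw [this]
      _ = x := by group
  have h2C : ∀ x ∈ centA, α2 (gC * x * gC⁻¹) = gC * x * gC⁻¹ := fun x hx => by
    rw [hα2, MulAut.mul_apply, hC x hx, MulAut.conj_apply, inv_inv]
    exact he1 x hx
  let S : Subgroup Th := α2.toMonoidHom.eqLocus (MonoidHom.id Th)
  have hSA : centA ≤ S := fun x hx => h2A x hx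
  have hb : tg 1 ∈ S := b_mem hSA fun x hx => h2C x hx
  have hP : toP.range ≤ S := by
    rw [MonoidHom.range_eq_map, ← closure_pGen, MonoidHom.map_closure, Subgroup.closure_le]
    rintro _ ⟨_, ⟨g, hg, rfl⟩, rfl⟩
    rw [toP_gen hg]
    by_cases h1 : g = 1
    · subst h1; exact hb
    · exact hSA (tg_mem_centA (by simp [cLet]; omega))
  have hS : S = ⊤ := by
    rw [eq_top_iff, ← gen_top, Subgroup.closure_le]
    rintro x (rfl | hx)
    · exact hSA (tg_mem_centA (by simp [cLet]))
    · exact hP hx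
  refine ⟨g1⁻¹ * (k1 * e1), MulEquiv.ext fun x => ?_⟩
  have hx : α2 x = x := (hS.ge (Subgroup.mem_top x) : x ∈ S)
  rw [hα2, hα1, MulAut.mul_apply, MulAut.mul_apply, MulAut.mul_apply, MulAut.conj_apply, MulAut.conj_apply,
    MulAut.conj_apply] at hx
  rw [MulAut.conj_apply]
  conv_lhs => rw [← hx]
  group

theorem card_out : Nat.card (Cfsg.Out Th) = 1 := by
  haveI : Subsingleton (Cfsg.Out Th) := by
    refine ⟨fun a b => ?_⟩
    induction a using QuotientGroup.induction_on with
    | H a =>
      induction b using QuotientGroup.induction_on with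
      | H b =>
        rw [QuotientGroup.eq]
        obtain ⟨s, hs⟩ := aut_inner (a⁻¹ * b)
        exact ⟨s, hs⟩
  exact Nat.card_of_subsingleton (1 : Cfsg.Out Th)

end CfsgLib.ThOut
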