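import Cfsg.Agent.Lib.ThPres.CentQuot

/-!
The extraspecial subgroup modulo its centre as vectors of eight bits.
-/

set_option autoImplicit false
set_option linter.style.haveILetI false

namespace CfsgLib.ThOut

open Cfsg.Spor CfsgLib.CosetEnum CfsgLib.ThPres CfsgLib.ThRep

attribute [local irreducible] certL qKey qMul qWit qElts

/-- the highest bit of an index -/
def topBit (n : ℕ) : ℕ := Nat.log2 n

/-- the elements are ordered products and the multiplication is a sum -/
noncomputable def vecOK : Bool :=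
  ((List.range 9).all fun j => (List.range 512).all fun k =>
    Nat.beq ((qMul.getD j []).getD k 0 / 2) ((k / 2) ^^^ (2 ^ j / 2))) &&
  (((List.range 512).drop 1).all fun n =>
    Nat.blt (topBit n) 9 && Nat.ble (2 ^ topBit n) n && (qElts.getD n [] == qElts.getD (n - 2 ^ topBit n) [] ++ qGens.getD (topBit n) []))

theorem vec_ok : vecOK = true := by decide +kernel

theorem split_bit {n : ℕ} (hn : n < 512) (h0 : n ≠ 0) :
    topBit n < 9 ∧ 2 ^ topBit n ≤ n ∧
      qe n = qe (n - 2 ^ topBit n) * prodW pGen (qGens.getD (topBit n) []) := by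
  have h := vec_ok
  simp only [vecOK, Bool.and_eq_true, List.all_eq_true, Nat.blt_eq, Nat.ble_eq, beq_iff_eq] at h
  have hm : n ∈ (List.range 512).drop 1 := List.mem_iff_getElem.2 ⟨n - 1, by simp; omega, by
    simp only [List.getElem_drop, List.getElem_range]; omega⟩
  obtain ⟨⟨h1, h2⟩, h3⟩ := h.2 n hm
  refine ⟨h1, h2, ?_⟩
  rw [qe, qe, h3, prodW_append]

/-- multiplication by a generator as given by the table -/
theorem qe_step_tab {k : ℕ} (hk : k < 512) {j : ℕ} (hj : j < 9) :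
    (qMul.getD j []).getD k 0 < 512 ∧
      qe k * prodW pGen (qGens.getD j []) = qe ((qMul.getD j []).getD k 0) := by
  obtain ⟨h9, -, -, hlen, hgl, h⟩ := q_facts
  have hj' : j < qGens.length := h9.symm ▸ hj
  have hm := List.all_eq_true.1 q_mul j (List.mem_range.2 hj)
  simp only [qMulOK, Bool.and_eq_true, List.all_eq_true, Nat.blt_eq] at hm
  have hl2 := Nat.eq_of_beq_eq_true hm.1
  have hk2 : k < qKey.length := by omega
  have hk3 : k < (qMul.getD j []).length := by omega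
  obtain ⟨hlt, hval⟩ := hm.2 (qKey[k], (qMul.getD j [])[k])
    (List.mem_iff_getElem.2 ⟨k, by rw [List.length_zip, hl2, hlen]; simpa using hk, List.getElem_zip⟩)
  rw [List.getD_eq_getElem _ 0 hk3]
  refine ⟨hlt, ?_⟩
  have hval' := Nat.eq_of_beq_eq_true hval
  rw [← List.getD_eq_getElem qKey 0 hk2, ← (h k hk).2.1, ← (h _ hlt).2.1] at hval'
  simp only [actKey_run (h k hk).1, List.getD_eq_getElem qGens _ hj'] at hval'
  have hlw : ∀ g ∈ qElts.getD k [] ++ qGens[j], g < 9 := fun g hg =>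
    (List.mem_append.1 hg).elim ((h k hk).1 g) (hgl _ (List.getElem_mem _) g)
  rw [qe, qe, ← prodW_append, List.getD_eq_getElem qGens _ hj']
  exact eq_of_key hlw (h _ hlt).1 hval'

theorem qe_mul : ∀ {n : ℕ}, n < 512 → ∀ k < 512, ∃ m < 512,
    qe k * qe n = qe m ∧ m / 2 = (k / 2) ^^^ (n / 2) := by
  intro n
  induction n using Nat.strong_induction_on with
  | _ n ih =>
    intro hn k hk
    by_cases h0 : n = 0
    · subst h0
      exact ⟨k, hk, by rw [qe_zero.1, mul_one], by simp⟩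
    obtain ⟨hj, hle, e⟩ := split_bit hn h0
    have hlt : n - 2 ^ topBit n < n := Nat.sub_lt (Nat.pos_of_ne_zero h0) (Nat.two_pow_pos _)
    obtain ⟨m, hm, em, hmv⟩ := ih _ hlt (by omega) k hk
    obtain ⟨m', hm', em', hmv'⟩ := ih _ hlt (by omega) 0 (by norm_num)
    have h := vec_ok
    simp only [vecOK, Bool.and_eq_true, List.all_eq_true, List.mem_range] at h
    have hv := fun x (hx : x < 512) => Nat.eq_of_beq_eq_true (h.1 _ hj x hx)
    obtain ⟨hlt2, e2⟩ := qe_step_tab hm hj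
    refine ⟨_, hlt2, by rw [e, ← mul_assoc, em, e2], ?_⟩
    have hmn : m' = n - 2 ^ topBit n := qe_inj m' hm' _ (by omega) (by rw [← em', qe_zero.1, one_mul])
    obtain ⟨hlt3, e3⟩ := qe_step_tab (k := n - 2 ^ topBit n) (by omega) hj
    have hn' : (qMul.getD (topBit n) []).getD (n - 2 ^ topBit n) 0 = n :=
      qe_inj _ hlt3 n hn (by rw [← e3, ← e])
    have hnv : n / 2 = ((n - 2 ^ topBit n) / 2) ^^^ (2 ^ topBit n / 2) := by
      rw [← hv _ (by omega), hn']
    rw [hv m hm, hmv, hnv, Nat.xor_assoc]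

theorem exists_idx {x : Th} (hx : x ∈ qTh) : ∃ k < 512, toP (qe k) = x := by
  obtain ⟨y, hy, rfl⟩ := hx
  obtain ⟨k, hk, rfl⟩ := (mem_qGrp y).1 hy
  exact ⟨k, hk, rfl⟩

theorem qe_mem_qTh {k : ℕ} (hk : k < 512) : toP (qe k) ∈ qTh := ⟨qe k, qe_mem hk, rfl⟩

open Classical in
/-- the vector of an element -/
noncomputable def vec (x : Th) : ℕ := if h : x ∈ qTh then (exists_idx h).choose / 2 else 0

theorem vec_qe {k : ℕ} (hk : k < 512) : vec (toP (qe k)) = k / 2 := by
  rw [vec, dif_pos (qe_mem_qTh hk)]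
  obtain ⟨h1, h2⟩ := (exists_idx (qe_mem_qTh hk)).choose_spec
  rw [qe_inj _ h1 k hk (toP_injective h2)]

theorem vec_lt {x : Th} (hx : x ∈ qTh) : vec x < 256 := by
  obtain ⟨k, hk, rfl⟩ := exists_idx hx
  rw [vec_qe hk]; omega

theorem vec_mul {x y : Th} (hx : x ∈ qTh) (hy : y ∈ qTh) : vec (x * y) = vec x ^^^ vec y := by
  obtain ⟨k, hk, rfl⟩ := exists_idx hx
  obtain ⟨n, hn, rfl⟩ := exists_idx hy
  obtain ⟨m, hm, e, hv⟩ := qe_mul hn k hk
  rw [← map_mul, e, vec_qe hm, vec_qe hk, vec_qe hn, hv]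

theorem tg0_eq : toP (pGen 0) = tg 0 := toP_gen (by norm_num)

theorem vec_one : vec 1 = 0 := by
  rw [← map_one toP, ← qe_zero.1, vec_qe (by norm_num)]

theorem vec_eq_zero {x : Th} (hx : x ∈ qTh) : vec x = 0 ↔ x = 1 ∨ x = tg 0 := by
  obtain ⟨k, hk, rfl⟩ := exists_idx hx
  rw [vec_qe hk]
  constructor
  · intro h
    obtain rfl | rfl : k = 0 ∨ k = 1 := by omega
    · exact Or.inl (by rw [qe_zero.1, map_one])
    · exact Or.inr (by rw [qe_zero.2, tg0_eq])
  · intro h
    rcases h with h | h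
    · rw [← map_one toP] at h
      rw [qe_inj k hk 0 (by norm_num) ((toP_injective h).trans qe_zero.1.symm)]
    · rw [← tg0_eq] at h
      rw [qe_inj k hk 1 (by norm_num) ((toP_injective h).trans qe_zero.2.symm)]

theorem vec_inv {x : Th} (hx : x ∈ qTh) : vec x⁻¹ = vec x := by
  have h := vec_mul (inv_mem hx) hx
  rw [inv_mul_cancel, vec_one] at h
  exact Nat.xor_eq_zero_iff.1 h.symm

theorem vec_eq_iff {x y : Th} (hx : x ∈ qTh) (hy : y ∈ qTh) :
    vec x = vec y ↔ x⁻¹ * y = 1 ∨ x⁻¹ * y = tg 0 := by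
  rw [← vec_eq_zero (mul_mem (inv_mem hx) hy), vec_mul (inv_mem hx) hy, vec_inv hx, Nat.xor_eq_zero_iff]

end CfsgLib.ThOut
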